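import Groth.Agent.LefFEt.Res

/-!
Lifting functions from the bijectivity of `Hom(D, O) ⟶ lim Hom(D, O/J^n)`.
-/

noncomputable section

set_option linter.style.haveILetI false
set_option linter.unusedSectionVars false
set_option backward.isDefEq.respectTransparency false
set_option backward.isDefEq.respectTransparency.types false
set_option autoImplicit false

universe u

open CategoryTheory CategoryTheory.Limits AlgebraicGeometry TopologicalSpace Opposite
open Groth.Agent.H23

namespace Groth.Agent.LefFEt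

variable {W U : Scheme.{u}} (J : U.IdealSheafData) (g : W ⟶ U) [IsFinite g] [Etale g]

theorem mulHom_app (t : Γ(W, ⊤)) (O : W.Opens) (a : Γ(W, O)) :
    (LefConn.mulHom t).app O (a : Γ(Coh.structureModule W, O)) =
      (W.presheaf.map (homOfLE le_top).op t * a : Γ(W, O)) := by
  rw [Frame.app_eq_smul (LefConn.mulHom t) O a, ← Frame.app_one_res (LefConn.mulHom t) (le_top : O ≤ ⊤)]
  show (a : Γ(W, O)) * W.presheaf.map (homOfLE le_top).op (LefConn.val (LefConn.mulHom t)) = _
  rw [LefConn.val_mulHom, mul_comm]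

/-- The functional given by a global function. -/
def phi (t : Γ(W, ⊤)) : CurveTraceDeg.push g ⟶ Coh.structureModule U :=
  (Scheme.Modules.pushforward g).map (LefConn.mulHom t) ≫ CurveTraceDeg.trace (isFinLocFree_push g)

theorem phi_app (t : Γ(W, ⊤)) (V : U.Opens) (a : Γ(W, g ⁻¹ᵁ V)) :
    (phi g t).app V (a : Γ(CurveTraceDeg.push g, V)) = tr g V (loc g V t * a) :=
  congrArg (tr g V) (mulHom_app t (g ⁻¹ᵁ V) a)

/-- The functional to a thickening given by a function on it. -/
def psi (n : ℕ) (c : Γ(Wn J g n, ⊤)) : CurveTraceDeg.push g ⟶ ClSub.quotMod (J ^ (n + 1)) :=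
  ⟨PresheafOfModules.homMk
    { app := fun V => AddCommGrpCat.ofHom (AddMonoidHom.mk' (fun a : Γ(W, g ⁻¹ᵁ V.unop) =>
        trn J g n c V.unop a) (trn_add J g n c V.unop))
      naturality := fun V V' i => by
        ext a
        exact trn_res J g c i.unop.le a }
    fun V r a => trn_smul J g n c V.unop r a⟩

theorem psi_app (n : ℕ) (c : Γ(Wn J g n, ⊤)) (V : U.Opens) (a : Γ(W, g ⁻¹ᵁ V)) :
    (psi J g n c).app V (a : Γ(CurveTraceDeg.push g, V)) = trn J g n c V a := rfl

theorem phi_comp (t : Γ(W, ⊤)) (n : ℕ) :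
    phi g t ≫ ClSub.toSubscheme (J ^ (n + 1)) = psi J g n ((rn J g n).appTop t) := by
  refine Scheme.Modules.hom_ext _ _ fun V => ?_
  ext a
  show (iota J n).app V ((phi g t).app V a) = _
  rw [psi_app, trn_appTop, phi_app]

theorem quotMap_app {I K : U.IdealSheafData} (h : I ≤ K) (V : U.Opens) (s : Γ(I.subscheme, I.subschemeι ⁻¹ᵁ V))
    (e : K.subschemeι ⁻¹ᵁ V ≤ Scheme.IdealSheafData.inclusion h ⁻¹ᵁ (I.subschemeι ⁻¹ᵁ V)) :
    (Lef.quotMap h).app V (s : Γ(ClSub.quotMod I, V)) =
      (Scheme.IdealSheafData.inclusion h).appLE _ _ e s := by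
  have hcongr : ∀ (f : K.subscheme ⟶ U) (he : f = K.subschemeι)
      (x : Γ(K.subscheme, f ⁻¹ᵁ V)),
      ((Scheme.Modules.pushforwardCongr he).hom.app (Coh.structureModule K.subscheme)).app V x =
        K.subscheme.presheaf.map (eqToHom (by rw [he])).op x := by
    intro f he x
    subst he
    rw [Scheme.Modules.pushforwardCongr_hom_app_app]
    rfl
  unfold Lef.quotMap
  rw [Scheme.Modules.Hom.comp_app, Scheme.Modules.Hom.comp_app, ConcreteCategory.comp_apply,
    ConcreteCategory.comp_apply, hcongr]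
  rfl

/-- Functions lift along thickenings if `Hom(g_* O, O) ⟶ lim Hom(g_* O, O/J^n)` is bijective. -/
theorem sep_and_lifts (H : Lef.HomToFormalBijective J (CurveTraceDeg.push g)) : Sep J g ∧ Lifts J g := by
  refine ⟨fun t ht => ?_, fun e he => ?_⟩
  · have h0 : phi g t = 0 := H.1 _ _ fun n => by
      rw [zero_comp, phi_comp, ht n]
      refine Scheme.Modules.hom_ext _ _ fun V => ?_
      ext a
      refine (psi_app J g n 0 V a).trans ?_
      rw [trn, locn, map_zero, zero_mul, tr_zero]
      rfl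
    refine eq_zero_of_tr_loc g fun V b _ => ?_
    rw [← phi_app, h0]
    rfl
  · have hform : Lef.IsFormalHom J (CurveTraceDeg.push g) (fun n => psi J g n (e n)) := by
      intro n
      refine Scheme.Modules.hom_ext _ _ fun V => ?_
      ext a
      refine (quotMap_app (Lef.pow_succ_le J n) V _ ?_).trans (trn_trans J g (he n) V a _)
      rw [← Scheme.Hom.comp_preimage, Scheme.IdealSheafData.inclusion_subschemeι]
    obtain ⟨φ, hφ⟩ := H.2 _ hform
    let Φ : ∀ V : U.Opens, Γ(W, g ⁻¹ᵁ V) → Γ(U, V) := fun V a => φ.app V (a : Γ(CurveTraceDeg.push g, V))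
    have hadd : ∀ V a b, Φ V (a + b) = Φ V a + Φ V b := fun V a b => map_add (φ.app V).hom a b
    have hmul : ∀ V r a, Φ V (g.app V r * a) = r * Φ V a := fun V r a =>
      Scheme.Modules.Hom.app_smul φ r (a : Γ(CurveTraceDeg.push g, V))
    have hres : ∀ {V' V : U.Opens} (h : V' ≤ V) a,
        Φ V' (W.presheaf.map (homOfLE (g.preimage_mono h)).op a) = U.presheaf.map (homOfLE h).op (Φ V a) :=
      fun {V' V} h a => ConcreteCategory.congr_hom (φ.mapPresheaf.naturality (homOfLE h).op) a
    choose F hF hxF _hle using fun x : U => exists_fine g (x := x) (O := ⊤) trivial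
    choose t ht using fun x => exists_tr_eq g (hF x) (Φ (F x)) (hadd _) (hmul _)
    have hsub : ∀ x (V : U.Opens) (hV : IsAffineOpen V) (h : V ≤ F x) (z : Γ(W, g ⁻¹ᵁ V)),
        tr g V (W.presheaf.map (homOfLE (g.preimage_mono h)).op (t x) * z) = Φ V z := by
      intro x V hV h z
      obtain ⟨m, b, b', hb⟩ := (hF x).mono g hV h
      letI := CoverPush.alg g V
      conv_lhs => rw [← b'.sum_repr z]
      conv_rhs => rw [← b'.sum_repr z]
      induction (Finset.univ : Finset (Fin m)) using Finset.induction_on with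
      | empty =>
        rw [Finset.sum_empty, mul_zero, tr_zero]
        have := hmul V 0 0
        rw [map_zero, zero_mul, zero_mul] at this
        exact this.symm
      | insert i s hi ih =>
        rw [Finset.sum_insert hi, mul_add, tr_add, hadd, ih, Algebra.smul_def, hb]
        congr 1
        show tr g V (_ * (g.app V _ * _)) = Φ V (g.app V _ * _)
        rw [mul_left_comm, tr_mul, hmul, ← map_mul, tr_res g h, ht, ← hres h]
    have hagree : ∀ x y, W.presheaf.map (homOfLE (inf_le_left : g ⁻¹ᵁ F x ⊓ g ⁻¹ᵁ F y ≤ _)).op (t x) =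
        W.presheaf.map (homOfLE (inf_le_right : g ⁻¹ᵁ F x ⊓ g ⁻¹ᵁ F y ≤ _)).op (t y) := by
      intro x y
      choose G hG hwG hle using fun w : (g ⁻¹ᵁ F x ⊓ g ⁻¹ᵁ F y : W.Opens) =>
        exists_fine g (x := g w.1) (O := F x ⊓ F y) w.2
      refine W.sheaf.eq_of_locally_eq' (fun w => g ⁻¹ᵁ G w) _
        (fun w => homOfLE fun z hz => hle w hz)
        (fun z hz => Opens.mem_iSup.mpr ⟨⟨z, hz⟩, hwG ⟨z, hz⟩⟩) _ _ fun w => ?_
      show W.presheaf.map _ (W.presheaf.map _ _) = W.presheaf.map _ (W.presheaf.map _ _)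
      simp only [← ConcreteCategory.comp_apply, ← Functor.map_comp]
      rw [← sub_eq_zero]
      refine eq_zero_of_tr g (hG w) fun z => ?_
      rw [sub_mul, tr_sub, sub_eq_zero]
      exact (hsub x _ (hG w).affine (fun a ha => (hle w ha).1) z).trans
        (hsub y _ (hG w).affine (fun a ha => (hle w ha).2) z).symm
    obtain ⟨T, hT, -⟩ := W.sheaf.existsUnique_gluing' (fun x : U => g ⁻¹ᵁ F x) ⊤ (fun x => homOfLE le_top)
      (fun w _ => Opens.mem_iSup.mpr ⟨g w, hxF _⟩) t hagree
    refine ⟨T, fun n => appTop_eq_of_trn J g fun V b _ => ?_⟩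
    have key : tr g V (loc g V T * b) = Φ V b := by
      choose G hG hwG hle using fun v : V => exists_fine g (x := v.1) (O := F v.1 ⊓ V) ⟨hxF _, v.2⟩
      refine U.sheaf.eq_of_locally_eq' G V (fun v => homOfLE fun z hz => (hle v hz).2)
        (fun z hz => Opens.mem_iSup.mpr ⟨⟨z, hz⟩, hwG ⟨z, hz⟩⟩) _ _ fun v => ?_
      show U.presheaf.map _ _ = U.presheaf.map _ _
      rw [← tr_res g (fun z hz => (hle v hz).2), ← hres (fun z hz => (hle v hz).2), map_mul, loc_map g (fun z hz => (hle v hz).2),
        ← hsub v.1 _ (hG v).affine (fun z hz => (hle v hz).1)]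
      congr 2
      rw [← (show W.presheaf.map (homOfLE le_top).op T = t v.1 from hT v.1), loc,
        ← ConcreteCategory.comp_apply, ← Functor.map_comp]
      rfl
    rw [key]
    exact ConcreteCategory.congr_hom (congrArg (fun ψ => Scheme.Modules.Hom.app ψ V) (hφ n))
      (b : Γ(CurveTraceDeg.push g, V))

end Groth.Agent.LefFEt
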