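import Groth.Agent.Pi1X.FEtFull
import Groth.Agent.LefConn.Basic
import Groth.Agent.HensCouple7.Gamma
import Groth.Prelude.Def_Lef
import Groth.Prelude.Def_FEt

/-!
Full faithfulness of restriction to a closed subscheme from lifting of functions on thickenings.
-/

noncomputable section

set_option linter.style.haveILetI false
set_option backward.isDefEq.respectTransparency false
set_option backward.isDefEq.respectTransparency.types false
set_option autoImplicit false

universe u

open CategoryTheory CategoryTheory.Limits AlgebraicGeometry TopologicalSpace Opposite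

namespace Groth.Agent.LefFEt

variable {W U : Scheme.{u}} (J : U.IdealSheafData) (g : W ⟶ U)

/-- The base change to the `n`th thickening. -/
abbrev Wn (n : ℕ) : Scheme.{u} := pullback g (J ^ (n + 1)).subschemeι

/-- The base change to the `n`th thickening, inside `W`. -/
abbrev rn (n : ℕ) : Wn J g n ⟶ W := pullback.fst g (J ^ (n + 1)).subschemeι

/-- The inclusion of consecutive base changes. -/
def trans (n : ℕ) : Wn J g n ⟶ Wn J g (n + 1) :=
  pullback.lift (rn J g n)
    (pullback.snd g (J ^ (n + 1)).subschemeι ≫ Scheme.IdealSheafData.inclusion (Lef.pow_succ_le J n)) (by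
      rw [Category.assoc, Scheme.IdealSheafData.inclusion_subschemeι]
      exact pullback.condition)

theorem trans_rn (n : ℕ) : trans J g n ≫ rn J g (n + 1) = rn J g n := pullback.lift_fst _ _ _

theorem range_rn (n : ℕ) : Set.range (rn J g n).base = g.base ⁻¹' (J.support : Set U) := by
  rw [Scheme.Pullback.range_fst, Scheme.IdealSheafData.range_subschemeι,
    Scheme.IdealSheafData.support_pow_succ]

/-- A function vanishing on all thickenings is zero. -/
def Sep : Prop := ∀ t : Γ(W, ⊤), (∀ n, (rn J g n).appTop t = 0) → t = 0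

/-- A compatible family of functions on the thickenings. -/
def Compat (e : ∀ n, Γ(Wn J g n, ⊤)) : Prop := ∀ n, (trans J g n).appTop (e (n + 1)) = e n

/-- Compatible families of functions on the thickenings come from functions. -/
def Lifts : Prop := ∀ e, Compat J g e → ∃ t : Γ(W, ⊤), ∀ n, (rn J g n).appTop t = e n

theorem compat_of_isClopen {A : Set W} (e : ∀ n, Γ(Wn J g n, ⊤)) (he : ∀ n, e n * e n = e n)
    (hA : ∀ n, ((Wn J g n).basicOpen (e n) : Set (Wn J g n)) = (rn J g n).base ⁻¹' A) :
    Compat J g e := fun n => by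
  refine HensCouple7.eq_of_basicOpen_eq (by rw [← map_mul, he]) (he n) ?_
  ext y
  rw [SetLike.mem_coe, LefConn.preimage_basicOpen_top', ← SetLike.mem_coe, hA, hA, Set.mem_preimage,
    Set.mem_preimage, ← Scheme.Hom.comp_apply, trans_rn]

/-- Idempotents on the thickenings lift. -/
theorem exists_isClopen_lift (hsep : Sep J g) (hlift : Lifts J g) {A A' : Set W} (hA : IsClosed A)
    (hA' : IsClosed A') (hd : A ∩ A' = ∅) (hu : A ∪ A' = g.base ⁻¹' (J.support : Set U)) :
    ∃ G : Set W, IsClopen G ∧ G ∩ (g.base ⁻¹' (J.support : Set U)) = A := by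
  have hclop : ∀ n, IsClopen ((rn J g n).base ⁻¹' A) := fun n => by
    refine ⟨hA.preimage (rn J g n).continuous, ?_⟩
    have hco : ((rn J g n).base ⁻¹' A)ᶜ = (rn J g n).base ⁻¹' A' := by
      ext y
      have hy : (rn J g n).base y ∈ g.base ⁻¹' (J.support : Set U) := range_rn J g n ▸ ⟨y, rfl⟩
      rw [← hu] at hy
      refine ⟨fun h => hy.resolve_left h, fun h h' => ?_⟩
      have : (rn J g n).base y ∈ A ∩ A' := ⟨h', h⟩
      rwa [hd] at this
    rw [← isClosed_compl_iff, hco]
    exact hA'.preimage (rn J g n).continuous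
  choose e he heA using fun n => HensCouple7.exists_idempotent_of_isClopen (hclop n)
  obtain ⟨t, ht⟩ := hlift e (compat_of_isClopen J g e he heA)
  have ht2 : t * t = t := sub_eq_zero.1 (hsep _ fun n => by rw [map_sub, map_mul, ht, he, sub_self])
  refine ⟨(W.basicOpen t : Set W), ⟨?_, (W.basicOpen t).isOpen⟩, ?_⟩
  · rw [← isOpen_compl_iff, ← HensCouple7.basicOpen_compl_of_idem ht2]
    exact (W.basicOpen (1 - t)).isOpen
  · ext w
    have key : ∀ y, (rn J g 0).base y ∈ W.basicOpen t ↔ (rn J g 0).base y ∈ A := fun y => by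
      rw [← LefConn.preimage_basicOpen_top', ht, ← SetLike.mem_coe, heA, Set.mem_preimage]
    constructor
    · rintro ⟨hw, hwZ⟩
      rw [← range_rn J g 0] at hwZ
      obtain ⟨y, rfl⟩ := hwZ
      exact (key y).1 hw
    · intro hw
      have hwZ : w ∈ g.base ⁻¹' (J.support : Set U) := hu ▸ Or.inl hw
      refine ⟨?_, hwZ⟩
      rw [← range_rn J g 0] at hwZ
      obtain ⟨y, rfl⟩ := hwZ
      exact (key y).2 hw

/-- Restriction of finite étale covers to `V(J)` is fully faithful if functions lift. -/
theorem restrict_fullyFaithful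
    (H : ∀ {W : Scheme.{u}} (g : W ⟶ U), IsFinite g → Etale g → Sep J g ∧ Lifts J g) :
    (FEt.restrict J.subschemeι).Full ∧ (FEt.restrict J.subschemeι).Faithful := by
  have hC : ∀ C : Set U, IsClopen C → C.Nonempty → (C ∩ Set.range J.subschemeι.base).Nonempty := by
    intro C hC hne
    rw [Scheme.IdealSheafData.range_subschemeι]
    by_contra hemp
    rw [Set.not_nonempty_iff_eq_empty] at hemp
    obtain ⟨e, he, heC⟩ := HensCouple7.exists_idempotent_of_isClopen hC
    have h0 : e = 0 := (H (𝟙 U) inferInstance inferInstance).1 e fun n => by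
      refine HensCouple7.eq_of_basicOpen_eq (by rw [← map_mul, he]) (mul_zero 0) ?_
      rw [Scheme.basicOpen_zero]
      refine Set.eq_empty_iff_forall_notMem.2 fun y hy => ?_
      rw [SetLike.mem_coe, LefConn.preimage_basicOpen_top', ← SetLike.mem_coe, heC] at hy
      have hy' : (rn J (𝟙 U) n).base y ∈ (J.support : Set U) := by
        have : (rn J (𝟙 U) n).base y ∈ Set.range (rn J (𝟙 U) n).base := ⟨y, rfl⟩
        rwa [range_rn] at this
      have : (rn J (𝟙 U) n).base y ∈ C ∩ (J.support : Set U) := ⟨hy, hy'⟩
      rwa [hemp] at this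
    rw [← heC, h0, Scheme.basicOpen_zero] at hne
    exact Set.not_nonempty_empty hne
  refine ⟨Pi1X.restrict_full _ hC fun X C hC' => ?_, Pi1X.restrict_faithful _ hC⟩
  let g : X.left ⟶ U := X.hom
  let j := pullback.fst g J.subschemeι
  haveI : IsClosedImmersion j := MorphismProperty.pullback_fst _ _ inferInstance
  have hinj : Function.Injective j.base := j.isClosedEmbedding.injective
  have hrange : Set.range j.base = g.base ⁻¹' (J.support : Set U) := by
    show Set.range (pullback.fst g J.subschemeι).base = _
    rw [Scheme.Pullback.range_fst, Scheme.IdealSheafData.range_subschemeι]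
  obtain ⟨hs, hl⟩ := H g X.prop.1 X.prop.2
  obtain ⟨G, hG, hGA⟩ := exists_isClopen_lift J g hs hl (A := j.base '' C) (A' := j.base '' Cᶜ)
    (j.isClosedEmbedding.isClosedMap _ hC'.1) (j.isClosedEmbedding.isClosedMap _ hC'.compl.1)
    (by rw [← Set.image_inter hinj, Set.inter_compl_self, Set.image_empty])
    (by rw [← Set.image_union, Set.union_compl_self, Set.image_univ, hrange])
  refine ⟨G, hG, ?_⟩
  ext y
  constructor
  · intro hy
    have h1 : j.base y ∈ G ∩ g.base ⁻¹' (J.support : Set U) := ⟨hy, hrange ▸ ⟨y, rfl⟩⟩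
    rw [hGA] at h1
    exact hinj.mem_set_image.1 h1
  · intro hy
    have h1 : j.base y ∈ j.base '' C := Set.mem_image_of_mem _ hy
    rw [← hGA] at h1
    exact h1.1

end Groth.Agent.LefFEt
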