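import Groth.Agent.LefFEt.FromHom
import Mathlib.AlgebraicGeometry.QuasiAffine

/-!
Lifting functions over a quasi-affine base from the structure sheaf.
-/

noncomputable section

set_option linter.style.haveILetI false
set_option linter.unusedSectionVars false
set_option backward.isDefEq.respectTransparency false
set_option backward.isDefEq.respectTransparency.types false
set_option autoImplicit false

universe u

open CategoryTheory CategoryTheory.Limits AlgebraicGeometry TopologicalSpace Opposite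

namespace Groth.Agent.LefFEt

theorem surj_basicOpen {W : Scheme.{u}} [CompactSpace W] [QuasiSeparatedSpace W] (f : Γ(W, ⊤))
    {O : W.Opens} (hO : O = W.basicOpen f) (b : Γ(W, O)) :
    ∃ (x : Γ(W, ⊤)) (k : ℕ), b * W.presheaf.map (homOfLE le_top).op f ^ k =
      W.presheaf.map (homOfLE le_top).op x := by
  subst hO
  haveI := isLocalization_basicOpen_of_qcqs (isCompact_univ : IsCompact ((⊤ : W.Opens) : Set W))
    isQuasiSeparated_univ f
  obtain ⟨⟨x, ⟨_, k, rfl⟩⟩, hx⟩ := IsLocalization.surj (Submonoid.powers f) b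
  refine ⟨x, k, ?_⟩
  rw [← map_pow]
  exact hx

theorem eq_zero_basicOpen {W : Scheme.{u}} [CompactSpace W] [QuasiSeparatedSpace W] (f : Γ(W, ⊤))
    {O : W.Opens} (hO : O = W.basicOpen f) (x : Γ(W, ⊤))
    (hx : W.presheaf.map (homOfLE (le_top : O ≤ ⊤)).op x = 0) : ∃ m : ℕ, f ^ m * x = 0 := by
  subst hO
  haveI := isLocalization_basicOpen_of_qcqs (isCompact_univ : IsCompact ((⊤ : W.Opens) : Set W))
    isQuasiSeparated_univ f
  obtain ⟨⟨_, m, rfl⟩, hm⟩ := (IsLocalization.map_eq_zero_iff (Submonoid.powers f)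
    Γ(W, W.basicOpen f) x).1 hx
  exact ⟨m, hm⟩

variable {W U : Scheme.{u}} (J : U.IdealSheafData) (g : W ⟶ U) [IsFinite g] [Etale g]
  [CompactSpace W] [QuasiSeparatedSpace W]

theorem preimage_basic (h : Γ(U, ⊤)) : g ⁻¹ᵁ U.basicOpen h = W.basicOpen (g.appTop h) :=
  Scheme.preimage_basicOpen_top g h

/-- A basic affine open inside a fine open is fine. -/
theorem fine_of_le {F V : U.Opens} (hF : Fine g F) (hV : IsAffineOpen V) (h : V ≤ F) : Fine g V := by
  obtain ⟨n, -, b', -⟩ := hF.mono g hV h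
  exact ⟨hV, n, ⟨b'⟩⟩

/-- A basic affine fine open. -/
def BFine (h : Γ(U, ⊤)) : Prop := Fine g (U.basicOpen h)

theorem exists_bfine [U.IsQuasiAffine] {x : U} {O : U.Opens} (hx : x ∈ O) :
    ∃ h, BFine g h ∧ x ∈ U.basicOpen h ∧ U.basicOpen h ≤ O := by
  obtain ⟨F, hF, hxF, hFO⟩ := exists_fine g hx
  obtain ⟨_, ⟨_, ⟨h, hh, rfl⟩, rfl⟩, hxh, hle⟩ :=
    (Scheme.IsQuasiAffine.isBasis_basicOpen U).exists_subset_of_mem_open hxF F.2
  exact ⟨h, fine_of_le g hF hh hle, hxh, le_trans hle hFO⟩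

theorem loc_mul (V : U.Opens) (x y : Γ(W, ⊤)) : loc g V (x * y) = loc g V x * loc g V y :=
  map_mul (W.presheaf.map (homOfLE le_top).op).hom x y

theorem loc_appTop (V : U.Opens) (h : Γ(U, ⊤)) :
    loc g V (g.appTop h) = g.app V (U.presheaf.map (homOfLE le_top).op h) := by
  show W.presheaf.map _ (g.app ⊤ h) = _
  rw [← ConcreteCategory.comp_apply, ← ConcreteCategory.comp_apply, g.naturality]
  rfl

theorem isUnit_res (h : Γ(U, ⊤)) {V : U.Opens} (hV : V ≤ U.basicOpen h) :
    IsUnit (U.presheaf.map (homOfLE (le_top : V ≤ ⊤)).op h) := by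
  have h1 := RingedSpace.isUnit_res_basicOpen U.toRingedSpace h
  have h2 := h1.map (U.presheaf.map (homOfLE hV).op).hom
  refine (congrArg IsUnit ?_).mp h2
  exact (ConcreteCategory.congr_hom (U.presheaf.map_comp (homOfLE le_top).op (homOfLE hV).op) h).symm

theorem eq_zero_of_loc {h : Γ(U, ⊤)} (hh : BFine g h) {a : Γ(W, g ⁻¹ᵁ U.basicOpen h)}
    (H : ∀ x : Γ(W, ⊤), tr g (U.basicOpen h) (a * loc g (U.basicOpen h) x) = 0) : a = 0 := by
  refine eq_zero_of_tr g hh fun b => ?_
  obtain ⟨x, k, hx⟩ := surj_basicOpen (g.appTop h) (preimage_basic g h) b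
  have h1 := H x
  rw [show loc g (U.basicOpen h) x = b * loc g (U.basicOpen h) (g.appTop h) ^ k from hx.symm,
    loc_appTop, ← map_pow, ← mul_assoc, mul_comm (a * b), tr_mul] at h1
  exact ((isUnit_res h le_rfl).pow k).mul_right_eq_zero.1 h1

/-- A semilinear functional vanishing on global functions vanishes. -/
theorem family_eq_zero [U.IsQuasiAffine] {Z : Scheme.{u}} (i : Z ⟶ U)
    (D : ∀ V : U.Opens, Γ(W, g ⁻¹ᵁ V) → Γ(Z, i ⁻¹ᵁ V))
    (hmul : ∀ V r a, D V (g.app V r * a) = i.app V r * D V a)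
    (hres : ∀ {V' V : U.Opens} (h : V' ≤ V) a, D V' (W.presheaf.map (homOfLE (g.preimage_mono h)).op a) =
      Z.presheaf.map (homOfLE (i.preimage_mono h)).op (D V a))
    (h0 : ∀ x : Γ(W, g ⁻¹ᵁ ⊤), D ⊤ x = 0) (V : U.Opens) (b : Γ(W, g ⁻¹ᵁ V)) : D V b = 0 := by
  choose h hh hxh hle using fun x : V => exists_bfine g x.2
  refine Z.sheaf.eq_of_locally_eq' (fun x : V => i ⁻¹ᵁ U.basicOpen (h x)) _
    (fun x => homOfLE (i.preimage_mono (hle x)))
    (fun z hz => Opens.mem_iSup.mpr ⟨⟨i z, hz⟩, hxh ⟨i z, hz⟩⟩) _ _ fun x => ?_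
  show Z.presheaf.map _ _ = Z.presheaf.map _ _
  rw [map_zero, ← hres (hle x)]
  generalize W.presheaf.map (homOfLE (g.preimage_mono (hle x))).op b = c
  obtain ⟨y, k, hy⟩ := surj_basicOpen (g.appTop (h x)) (preimage_basic g (h x)) c
  have h1 : D (U.basicOpen (h x)) (loc g (U.basicOpen (h x)) y) = 0 := by
    have h2 := hres (le_top : U.basicOpen (h x) ≤ ⊤) (y : Γ(W, g ⁻¹ᵁ ⊤))
    rw [h0, map_zero] at h2
    exact h2
  rw [show loc g (U.basicOpen (h x)) y = c * loc g (U.basicOpen (h x)) (g.appTop (h x)) ^ k from hy.symm,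
    loc_appTop, ← map_pow, mul_comm, hmul, map_pow] at h1
  exact (((isUnit_res (h x) le_rfl).map (i.app _).hom).pow k).mul_right_eq_zero.1 h1

/-- Functions separate over a quasi-affine base. -/
theorem sep_of_quasiAffine [U.IsQuasiAffine]
    (hinj : ∀ e : Γ(U, ⊤), (∀ n, (iota J n).appTop e = 0) → e = 0) : Sep J g := by
  intro t ht
  refine eq_zero_of_tr_loc g fun V b _ => ?_
  refine family_eq_zero g (𝟙 U) (fun V a => tr g V (loc g V t * a)) (fun V r a => ?_) (fun {V' V} h a => ?_)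
    (fun x => ?_) V b
  · rw [mul_left_comm, tr_mul]
    rfl
  · show tr g V' (loc g V' t * _) = U.presheaf.map (homOfLE h).op (tr g V (loc g V t * a))
    rw [← tr_res g h, map_mul, loc_map g h]
  · refine hinj _ fun n => ?_
    exact (trn_appTop J g n t ⊤ x).symm.trans (by rw [ht n, trn, locn, map_zero, zero_mul, tr_zero])

/-- A semilinear functional on global functions is locally a trace pairing. -/
theorem exists_tr_loc [U.IsQuasiAffine] (F : Γ(W, ⊤) → Γ(U, ⊤)) (hF : ∀ a b, F (a + b) = F a + F b)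
    (hF' : ∀ r a, F (g.appTop r * a) = r * F a) {h : Γ(U, ⊤)} (hh : BFine g h) :
    ∃ t : Γ(W, g ⁻¹ᵁ U.basicOpen h), ∀ x, tr g (U.basicOpen h) (t * loc g (U.basicOpen h) x) =
      U.presheaf.map (homOfLE (le_top : U.basicOpen h ≤ ⊤)).op (F x) := by
  let V := U.basicOpen h
  let r : Γ(U, ⊤) → Γ(U, V) := fun e => U.presheaf.map (homOfLE le_top).op e
  have hu : IsUnit (r h) := isUnit_res h le_rfl
  have hz : ∀ x, loc g V x = 0 → r (F x) = 0 := fun x hx => by
    obtain ⟨m, hm⟩ := eq_zero_basicOpen (g.appTop h) (preimage_basic g h) x hx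
    have h0 : F 0 = 0 := by simpa using hF' 0 0
    have h1 : r (h ^ m * F x) = 0 := by
      rw [← hF', map_pow, hm, h0]
      exact map_zero (U.presheaf.map (homOfLE le_top).op).hom
    rw [show r (h ^ m * F x) = r h ^ m * r (F x) by simp only [r, map_mul, map_pow]] at h1
    exact (hu.pow m).mul_right_eq_zero.1 h1
  have hsub : ∀ x y, F (x - y) = F x - F y := fun x y => by rw [eq_sub_iff_add_eq, ← hF, sub_add_cancel]
  have hex : ∀ b : Γ(W, g ⁻¹ᵁ V), ∃ v : Γ(U, V), ∀ x k, b * loc g V (g.appTop h) ^ k = loc g V x →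
      v * r h ^ k = r (F x) := fun b => by
    obtain ⟨x, k, hx⟩ := surj_basicOpen (g.appTop h) (preimage_basic g h) b
    refine ⟨((hu.pow k).unit⁻¹ : (Γ(U, V))ˣ) * r (F x), fun x' k' hx' => ?_⟩
    have h1 : r (F (g.appTop (h ^ k') * x - g.appTop (h ^ k) * x')) = 0 := hz _ <| by
      rw [show loc g V (g.appTop (h ^ k') * x - g.appTop (h ^ k) * x') =
        loc g V (g.appTop h) ^ k' * loc g V x - loc g V (g.appTop h) ^ k * loc g V x' by
          simp only [loc, map_sub, map_mul, map_pow]]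
      rw [← hx', show loc g V x = b * loc g V (g.appTop h) ^ k from hx.symm]
      ring
    rw [hsub, hF', hF'] at h1
    simp only [r, map_sub, map_mul, map_pow, sub_eq_zero] at h1
    rw [mul_assoc, mul_comm (r (F x)), h1, ← mul_assoc, IsUnit.val_inv_mul, one_mul]
  choose Φ hΦ using hex
  have hk : ∀ b k x, b * loc g V (g.appTop h) ^ k = loc g V x → ∀ v, v * r h ^ k = r (F x) → Φ b = v :=
    fun b k x hx v hv => (hu.pow k).mul_left_injective ((hΦ b x k hx).trans hv.symm)
  have hA : ∀ a b, Φ (a + b) = Φ a + Φ b := fun a b => by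
    obtain ⟨x, k, hx⟩ := surj_basicOpen (g.appTop h) (preimage_basic g h) a
    obtain ⟨y, l, hy⟩ := surj_basicOpen (g.appTop h) (preimage_basic g h) b
    refine hk (a + b) (k + l) (g.appTop (h ^ l) * x + g.appTop (h ^ k) * y) ?_ _ ?_
    · rw [show loc g V (g.appTop (h ^ l) * x + g.appTop (h ^ k) * y) =
        loc g V (g.appTop h) ^ l * loc g V x + loc g V (g.appTop h) ^ k * loc g V y by
          simp only [loc, map_add, map_mul, map_pow],
        show loc g V x = a * loc g V (g.appTop h) ^ k from hx.symm,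
        show loc g V y = b * loc g V (g.appTop h) ^ l from hy.symm, pow_add]
      ring
    · rw [hF, hF', hF']
      simp only [r, map_add, map_mul, map_pow]
      rw [show U.presheaf.map (homOfLE le_top).op (F x) = Φ a * r h ^ k from (hΦ a x k hx).symm,
        show U.presheaf.map (homOfLE le_top).op (F y) = Φ b * r h ^ l from (hΦ b y l hy).symm]
      simp only [r]
      ring
  have hM : ∀ s a, Φ (g.app V s * a) = s * Φ a := fun s a => by
    obtain ⟨x, k, hx⟩ := surj_basicOpen (g.appTop h) (preimage_basic g h) a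
    obtain ⟨S, l, hS⟩ := surj_basicOpen h (rfl : U.basicOpen h = _) s
    refine hk (g.app V s * a) (l + k) (g.appTop S * x) ?_ _ ?_
    · rw [loc_mul, show loc g V x = a * loc g V (g.appTop h) ^ k from hx.symm, loc_appTop g V S,
        loc_appTop g V h, show U.presheaf.map (homOfLE le_top).op S = s * r h ^ l from hS.symm, map_mul, map_pow,
        pow_add]
      ring
    · rw [hF', show r (S * F x) = r S * r (F x) from map_mul (U.presheaf.map (homOfLE le_top).op).hom S (F x),
        show r S = s * r h ^ l from hS.symm, ← hΦ a x k hx, pow_add]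
      ring
  obtain ⟨t, ht⟩ := exists_tr_eq g hh Φ hA hM
  exact ⟨t, fun x => (ht _).trans (hk _ 0 x (by rw [pow_zero, mul_one]) _ (by rw [pow_zero, mul_one]))⟩

/-- Functions lift over a quasi-affine base. -/
theorem lifts_of_quasiAffine [U.IsQuasiAffine] (H : Lef.HomToFormalBijective J (Coh.structureModule U)) :
    Lifts J g := by
  intro e he
  have hinj : ∀ a b : Γ(U, ⊤), (∀ n, (iota J n).appTop a = (iota J n).appTop b) → a = b := fun a b hab => by
    have := H.1 (LefConn.mulHom a) (LefConn.mulHom b) fun n => LefConn.hom_ext_val (by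
      rw [LefConn.val_comp_unitToPush, LefConn.val_comp_unitToPush, LefConn.val_mulHom, LefConn.val_mulHom]
      exact hab n)
    rw [← LefConn.val_mulHom a, this, LefConn.val_mulHom]
  have hex : ∀ x : Γ(W, ⊤), ∃ f : Γ(U, ⊤), ∀ n, (iota J n).appTop f = trn J g n (e n) ⊤ x := fun x => by
    obtain ⟨φ, hφ⟩ := H.2 (fun n => LefConn.secHom (iota J n)
      (trn J g n (e n) ⊤ x : Γ((J ^ (n + 1)).subscheme, ⊤))) fun n => by
        apply LefConn.hom_ext_val
        rw [LefConn.val_secHom_quotMap, LefConn.val_secHom]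
        exact (by rw [Scheme.Hom.appTop, Scheme.Hom.app_eq_appLE]; exact trn_trans J g (he n) ⊤ x le_rfl)
    refine ⟨LefConn.val φ, fun n => ?_⟩
    have := congrArg LefConn.val (hφ n)
    rw [LefConn.val_comp_unitToPush, LefConn.val_secHom] at this
    exact this
  choose F hF using hex
  have hadd : ∀ a b, F (a + b) = F a + F b := fun a b => hinj _ _ fun n => by
    rw [map_add, hF, hF, hF]
    exact trn_add J g n (e n) ⊤ a b
  have hsmul : ∀ r a, F (g.appTop r * a) = r * F a := fun r a => hinj _ _ fun n => by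
    rw [map_mul, hF, hF]
    exact trn_smul J g n (e n) ⊤ r a
  choose h hh hxh _hle using fun x : U => exists_bfine g (x := x) (O := ⊤) trivial
  choose t ht using fun x => exists_tr_loc g F hadd hsmul (hh x)
  have hagree : ∀ x y, W.presheaf.map
      (homOfLE (inf_le_left : g ⁻¹ᵁ U.basicOpen (h x) ⊓ g ⁻¹ᵁ U.basicOpen (h y) ≤ _)).op (t x) =
      W.presheaf.map
      (homOfLE (inf_le_right : g ⁻¹ᵁ U.basicOpen (h x) ⊓ g ⁻¹ᵁ U.basicOpen (h y) ≤ _)).op (t y) := by
    intro x y
    choose k hk hwk hle using fun w : (g ⁻¹ᵁ U.basicOpen (h x) ⊓ g ⁻¹ᵁ U.basicOpen (h y) : W.Opens) =>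
      exists_bfine g (x := g w.1) (O := U.basicOpen (h x) ⊓ U.basicOpen (h y)) w.2
    refine W.sheaf.eq_of_locally_eq' (fun w => g ⁻¹ᵁ U.basicOpen (k w)) _
      (fun w => homOfLE fun z hz => hle w hz)
      (fun z hz => Opens.mem_iSup.mpr ⟨⟨z, hz⟩, hwk ⟨z, hz⟩⟩) _ _ fun w => ?_
    show W.presheaf.map _ (W.presheaf.map _ _) = W.presheaf.map _ (W.presheaf.map _ _)
    simp only [← ConcreteCategory.comp_apply, ← Functor.map_comp]
    rw [← sub_eq_zero]
    refine eq_zero_of_loc g (hk w) fun z => ?_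
    have hs : ∀ q (hq : U.basicOpen (k w) ≤ U.basicOpen (h q)),
        tr g _ (W.presheaf.map (homOfLE (g.preimage_mono hq)).op (t q) * loc g _ z) =
          U.presheaf.map (homOfLE le_top).op (F z) := fun q hq => by
      rw [← loc_map g hq, ← map_mul, tr_res g hq, ht, ← ConcreteCategory.comp_apply, ← Functor.map_comp]
      rfl
    rw [sub_mul, tr_sub, sub_eq_zero]
    exact (hs x fun a ha => (hle w ha).1).trans (hs y fun a ha => (hle w ha).2).symm
  obtain ⟨T, hT, -⟩ := W.sheaf.existsUnique_gluing' (fun x : U => g ⁻¹ᵁ U.basicOpen (h x)) ⊤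
    (fun x => homOfLE le_top) (fun w _ => Opens.mem_iSup.mpr ⟨g w, hxh _⟩) t hagree
  have hTF : ∀ x : Γ(W, g ⁻¹ᵁ ⊤), tr g ⊤ (loc g ⊤ T * x) = F x := fun x => by
    refine U.sheaf.eq_of_locally_eq' (fun q : U => U.basicOpen (h q)) ⊤ (fun q => homOfLE le_top)
      (fun z _ => Opens.mem_iSup.mpr ⟨z, hxh z⟩) _ _ fun q => ?_
    show U.presheaf.map _ _ = U.presheaf.map _ _
    rw [← tr_res g le_top, map_mul, loc_map g le_top, ← ht q x]
    congr 2
    exact hT q
  refine ⟨T, fun n => appTop_eq_of_trn J g fun V b _ => ?_⟩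
  rw [← sub_eq_zero]
  refine family_eq_zero g (iota J n) (fun V a => (iota J n).app V (tr g V (loc g V T * a)) - trn J g n (e n) V a)
    (fun V r a => ?_) (fun {V' V} hV a => ?_) (fun x => ?_) V b
  · show _ - _ = _ * (_ - _)
    rw [mul_left_comm (loc g V T), tr_mul, map_mul, trn_smul, mul_sub]
  · show _ - _ = (J ^ (n + 1)).subscheme.presheaf.map _ (_ - _)
    rw [map_sub, trn_res J g _ hV, ← loc_map g hV, ← map_mul, tr_res g hV]
    simp only [← ConcreteCategory.comp_apply, Scheme.Hom.naturality]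
    rfl
  · refine sub_eq_zero.2 ((congrArg _ (hTF x)).trans ?_)
    exact hF x n

/-- Functions separate and lift over a quasi-affine base. -/
theorem sep_and_lifts_of_quasiAffine [U.IsQuasiAffine]
    (H : Lef.HomToFormalBijective J (Coh.structureModule U)) : Sep J g ∧ Lifts J g :=
  ⟨sep_of_quasiAffine J g fun a ha => by
    have := H.1 (LefConn.mulHom a) 0 fun n => LefConn.hom_ext_val (by
      rw [LefConn.val_comp_unitToPush, LefConn.val_mulHom, ha n, zero_comp]
      rfl)
    rw [← LefConn.val_mulHom a, this]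
    rfl, lifts_of_quasiAffine J g H⟩

end Groth.Agent.LefFEt
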