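import Groth.Agent.LefFEt.Trace
import Groth.Agent.LefFEt.Lift

/-!
The trace pairing on thickenings.
-/

noncomputable section

set_option linter.style.haveILetI false
set_option linter.unusedSectionVars false
set_option backward.isDefEq.respectTransparency false
set_option backward.isDefEq.respectTransparency.types false
set_option autoImplicit false

universe u

open CategoryTheory CategoryTheory.Limits AlgebraicGeometry TopologicalSpace Opposite
open Groth.Agent.H23

namespace Groth.Agent.LefFEt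

theorem appLE_congr {X Y : Scheme.{u}} {f f' : X ⟶ Y} (h : f = f') {O : Y.Opens} {O' : X.Opens}
    (e : O' ≤ f ⁻¹ᵁ O) (e' : O' ≤ f' ⁻¹ᵁ O) : f.appLE O O' e = f'.appLE O O' e' := by
  subst h; rfl

variable {W U : Scheme.{u}} (J : U.IdealSheafData) (g : W ⟶ U) [IsFinite g] [Etale g]

/-- The closed immersion of a thickening. -/
abbrev iota (n : ℕ) : (J ^ (n + 1)).subscheme ⟶ U := (J ^ (n + 1)).subschemeι

/-- A global function upstairs on a preimage. -/
def loc (V : U.Opens) (t : Γ(W, ⊤)) : Γ(W, g ⁻¹ᵁ V) := W.presheaf.map (homOfLE le_top).op t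

/-- A global function on a thickening on a preimage. -/
def locn (n : ℕ) (V : U.Opens) (c : Γ(Wn J g n, ⊤)) :
    Γ(Wn J g n, (gZ g (iota J n)) ⁻¹ᵁ ((iota J n) ⁻¹ᵁ V)) :=
  (Wn J g n).presheaf.map (homOfLE le_top).op c

theorem locn_map {n : ℕ} {V' V : U.Opens} (h : V' ≤ V) (c : Γ(Wn J g n, ⊤)) :
    (Wn J g n).presheaf.map (homOfLE ((gZ g (iota J n)).preimage_mono ((iota J n).preimage_mono h))).op
      (locn J g n V c) = locn J g n V' c := by
  simp only [locn, ← ConcreteCategory.comp_apply, ← Functor.map_comp]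
  rfl

theorem loc_map {V' V : U.Opens} (h : V' ≤ V) (t : Γ(W, ⊤)) :
    W.presheaf.map (homOfLE (g.preimage_mono h)).op (loc g V t) = loc g V' t := by
  simp only [loc, ← ConcreteCategory.comp_apply, ← Functor.map_comp]
  rfl

theorem res_loc (n : ℕ) (V : U.Opens) (t : Γ(W, ⊤)) :
    res g (iota J n) V (loc g V t) = locn J g n V ((rn J g n).appTop t) := by
  simp only [res, loc, locn, ← ConcreteCategory.comp_apply, Scheme.Hom.map_appLE]
  rfl

theorem res_mul {Z : Scheme.{u}} (i : Z ⟶ U) [IsAffineHom i] (V : U.Opens) (a b : Γ(W, g ⁻¹ᵁ V)) :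
    res g i V (a * b) = res g i V a * res g i V b :=
  map_mul ((pullback.fst g i).appLE (g ⁻¹ᵁ V) _ (preimage_le g i V)).hom a b

theorem res_add {Z : Scheme.{u}} (i : Z ⟶ U) [IsAffineHom i] (V : U.Opens) (a b : Γ(W, g ⁻¹ᵁ V)) :
    res g i V (a + b) = res g i V a + res g i V b :=
  map_add ((pullback.fst g i).appLE (g ⁻¹ᵁ V) _ (preimage_le g i V)).hom a b

theorem res_str {Z : Scheme.{u}} (i : Z ⟶ U) [IsAffineHom i] (V : U.Opens) (r : Γ(U, V)) :
    res g i V (g.app V r) = (gZ g i).app (i ⁻¹ᵁ V) (i.app V r) := by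
  simp only [res, Scheme.Hom.app_eq_appLE, ← ConcreteCategory.comp_apply, Scheme.Hom.appLE_comp_appLE]
  exact ConcreteCategory.congr_hom (appLE_congr pullback.condition _ _) r

theorem res_surjective {n : ℕ} {V : U.Opens} (hV : IsAffineOpen V) :
    Function.Surjective (res g (iota J n) V) := by
  intro c
  haveI : IsClosedImmersion (rn J g n) := MorphismProperty.pullback_fst _ _ inferInstance
  obtain ⟨a, ha⟩ := (rn J g n).app_surjective _ (hV.preimage g) ((Wn J g n).presheaf.map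
    (homOfLE (show rn J g n ⁻¹ᵁ (g ⁻¹ᵁ V) ≤ (gZ g (iota J n)) ⁻¹ᵁ ((iota J n) ⁻¹ᵁ V) by
      rw [← Scheme.Hom.comp_preimage, ← Scheme.Hom.comp_preimage, pullback.condition])).op c)
  refine ⟨a, ?_⟩
  show (rn J g n).appLE _ _ _ a = c
  rw [Scheme.Hom.appLE, ConcreteCategory.comp_apply, ha, ← ConcreteCategory.comp_apply, ← Functor.map_comp]
  exact ConcreteCategory.congr_hom ((Wn J g n).presheaf.map_id _) c

/-- The pairing on a thickening with a function. -/
def trn (n : ℕ) (c : Γ(Wn J g n, ⊤)) (V : U.Opens) (a : Γ(W, g ⁻¹ᵁ V)) :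
    Γ((J ^ (n + 1)).subscheme, (iota J n) ⁻¹ᵁ V) :=
  tr (gZ g (iota J n)) ((iota J n) ⁻¹ᵁ V) (locn J g n V c * res g (iota J n) V a)

theorem trn_add (n : ℕ) (c : Γ(Wn J g n, ⊤)) (V : U.Opens) (a b : Γ(W, g ⁻¹ᵁ V)) :
    trn J g n c V (a + b) = trn J g n c V a + trn J g n c V b := by
  rw [trn, trn, trn, res_add, mul_add, tr_add]

theorem trn_smul (n : ℕ) (c : Γ(Wn J g n, ⊤)) (V : U.Opens) (r : Γ(U, V)) (a : Γ(W, g ⁻¹ᵁ V)) :
    trn J g n c V (g.app V r * a) = (iota J n).app V r * trn J g n c V a := by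
  rw [trn, trn, res_mul, res_str, mul_left_comm, tr_mul]

theorem trn_res {n : ℕ} (c : Γ(Wn J g n, ⊤)) {V' V : U.Opens} (h : V' ≤ V) (a : Γ(W, g ⁻¹ᵁ V)) :
    trn J g n c V' (W.presheaf.map (homOfLE (g.preimage_mono h)).op a) =
      (J ^ (n + 1)).subscheme.presheaf.map (homOfLE ((iota J n).preimage_mono h)).op (trn J g n c V a) := by
  rw [trn, trn, res_res' g (iota J n) h, ← tr_res (gZ g (iota J n)) ((iota J n).preimage_mono h), map_mul, locn_map J g h]

/-- Pairing with the reduction of a global function is the reduction of the pairing. -/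
theorem trn_appTop (n : ℕ) (t : Γ(W, ⊤)) (V : U.Opens) (a : Γ(W, g ⁻¹ᵁ V)) :
    trn J g n ((rn J g n).appTop t) V a = (iota J n).app V (tr g V (loc g V t * a)) := by
  rw [trn, ← res_loc, ← res_mul, tr_res_baseChange]

theorem eq_of_trn {n : ℕ} {c c' : Γ(Wn J g n, ⊤)}
    (h : ∀ (V : U.Opens) (b : Γ(W, g ⁻¹ᵁ V)), Fine g V → trn J g n c V b = trn J g n c' V b) : c = c' := by
  rw [← sub_eq_zero]
  refine eq_zero_of_tr_res g (iota J n) fun V b hV => ?_
  rw [map_sub, sub_mul, tr_sub, sub_eq_zero]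
  exact h V b hV

theorem res_trans (n : ℕ) (V : U.Opens) (a : Γ(W, g ⁻¹ᵁ V))
    (h : (gZ g (iota J n)) ⁻¹ᵁ ((iota J n) ⁻¹ᵁ V) ≤
      trans J g n ⁻¹ᵁ ((gZ g (iota J (n + 1))) ⁻¹ᵁ ((iota J (n + 1)) ⁻¹ᵁ V))) :
    (trans J g n).appLE _ _ h (res g (iota J (n + 1)) V a) = res g (iota J n) V a := by
  rw [res, res, ← ConcreteCategory.comp_apply, Scheme.Hom.appLE_comp_appLE]
  exact ConcreteCategory.congr_hom (appLE_congr (trans_rn J g n) _ _) a

theorem trn_trans {n : ℕ} {c : Γ(Wn J g (n + 1), ⊤)} {c' : Γ(Wn J g n, ⊤)}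
    (hc : (trans J g n).appTop c = c') (V : U.Opens) (a : Γ(W, g ⁻¹ᵁ V))
    (h : (iota J n) ⁻¹ᵁ V ≤
      Scheme.IdealSheafData.inclusion (Lef.pow_succ_le J n) ⁻¹ᵁ ((iota J (n + 1)) ⁻¹ᵁ V)) :
    (Scheme.IdealSheafData.inclusion (Lef.pow_succ_le J n)).appLE _ _ h (trn J g (n + 1) c V a) =
      trn J g n c' V a := by
  choose F hF hxF hle using fun x : V => exists_fine g x.2
  let j := Scheme.IdealSheafData.inclusion (Lef.pow_succ_le J n)
  refine (J ^ (n + 1)).subscheme.sheaf.eq_of_locally_eq' (fun x : V => (iota J n) ⁻¹ᵁ F x) _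
    (fun x => homOfLE ((iota J n).preimage_mono (hle x)))
    (fun z hz => Opens.mem_iSup.mpr ⟨⟨iota J n z, hz⟩, hxF ⟨iota J n z, hz⟩⟩) _ _ fun x => ?_
  show (J ^ (n + 1)).subscheme.presheaf.map _ _ = (J ^ (n + 1)).subscheme.presheaf.map _ _
  rw [← trn_res J g _ (hle x)]
  have hxle : (iota J n) ⁻¹ᵁ F x ≤ j ⁻¹ᵁ ((iota J (n + 1)) ⁻¹ᵁ F x) := by
    rw [← Scheme.Hom.comp_preimage, Scheme.IdealSheafData.inclusion_subschemeι]
  have e1 : (J ^ (n + 1)).subscheme.presheaf.map (homOfLE ((iota J n).preimage_mono (hle x))).op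
      (j.appLE _ _ h (trn J g (n + 1) c V a)) = j.appLE _ _ hxle (trn J g (n + 1) c (F x)
        (W.presheaf.map (homOfLE (g.preimage_mono (hle x))).op a)) := by
    rw [trn_res J g _ (hle x)]
    simp only [← ConcreteCategory.comp_apply, Scheme.Hom.map_appLE, Scheme.Hom.appLE_map]
  rw [e1]
  generalize W.presheaf.map (homOfLE (g.preimage_mono (hle x))).op a = b
  obtain ⟨t, ht⟩ := res_surjective J g (hF x).affine (locn J g (n + 1) (F x) c)
  have hple : (gZ g (iota J n)) ⁻¹ᵁ ((iota J n) ⁻¹ᵁ F x) ≤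
      trans J g n ⁻¹ᵁ ((gZ g (iota J (n + 1))) ⁻¹ᵁ ((iota J (n + 1)) ⁻¹ᵁ F x)) := by
    have h0 : (trans J g n ≫ gZ g (iota J (n + 1))) ≫ iota J (n + 1) = gZ g (iota J n) ≫ iota J n := by
      simp only [trans, gZ, iota, pullback.lift_snd, Category.assoc, Scheme.IdealSheafData.inclusion_subschemeι]
    rw [← Scheme.Hom.comp_preimage, ← Scheme.Hom.comp_preimage, ← Scheme.Hom.comp_preimage, h0]
  have ht' : res g (iota J n) (F x) t = locn J g n (F x) c' := by
    rw [← res_trans J g n _ t hple, ht, ← hc]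
    simp only [locn, ← ConcreteCategory.comp_apply, Scheme.Hom.map_appLE]
    simp only [Scheme.Hom.appTop, Scheme.Hom.app_eq_appLE, Scheme.Hom.appLE_map]
  rw [trn, trn, ← ht, ← ht', ← res_mul, ← res_mul, tr_res_baseChange, tr_res_baseChange]
  simp only [Scheme.Hom.app_eq_appLE, ← ConcreteCategory.comp_apply, Scheme.Hom.appLE_comp_appLE]
  exact ConcreteCategory.congr_hom (appLE_congr (Scheme.IdealSheafData.inclusion_subschemeι _) _ _) _

/-- Reductions of pairings determine the function on the thickenings, given a global candidate. -/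
theorem appTop_eq_of_trn {n : ℕ} {c : Γ(Wn J g n, ⊤)} {t : Γ(W, ⊤)}
    (h : ∀ (V : U.Opens) (b : Γ(W, g ⁻¹ᵁ V)), Fine g V →
      (iota J n).app V (tr g V (loc g V t * b)) = trn J g n c V b) :
    (rn J g n).appTop t = c :=
  eq_of_trn J g fun V b hV => by rw [trn_appTop]; exact h V b hV

theorem eq_zero_of_tr_loc {t : Γ(W, ⊤)}
    (h : ∀ (V : U.Opens) (b : Γ(W, g ⁻¹ᵁ V)), Fine g V → tr g V (loc g V t * b) = 0) : t = 0 := by
  choose F hF hxF _hle using fun x : U => exists_fine g (x := x) (O := ⊤) trivial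
  refine W.sheaf.eq_of_locally_eq' (fun x : U => g ⁻¹ᵁ F x) ⊤ (fun x => homOfLE le_top)
    (fun w _ => Opens.mem_iSup.mpr ⟨g w, hxF _⟩) _ _ fun x => ?_
  rw [map_zero]
  exact eq_zero_of_tr g (hF x) fun b => h _ b (hF x)

end Groth.Agent.LefFEt
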