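import Groth.Agent.H23.FinTrace
import Groth.Agent.TraceEtale.Basic
import Groth.Agent.S9716
import Groth.Agent.CurveTraceDeg.Trace
import Mathlib.AlgebraicGeometry.Morphisms.Etale

/-!
The trace form of a finite étale morphism: nondegeneracy and base change.
-/

noncomputable section

set_option linter.style.haveILetI false
set_option backward.isDefEq.respectTransparency false
set_option backward.isDefEq.respectTransparency.types false
set_option autoImplicit false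

universe u

open CategoryTheory CategoryTheory.Limits AlgebraicGeometry TopologicalSpace Opposite
open Groth.Agent.H23

namespace Groth.Agent.LefFEt

variable {W U : Scheme.{u}}

/-- Traces in a base change of rings. -/
theorem trace_of_isPushout {A A' B B' : Type u} [CommRing A] [CommRing A'] [CommRing B] [CommRing B']
    {h : A →+* A'} {α : A →+* B} {α' : A' →+* B'} {g : B →+* B'}
    (hpo : IsPushout (CommRingCat.ofHom h) (CommRingCat.ofHom α) (CommRingCat.ofHom α') (CommRingCat.ofHom g))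
    {n : ℕ} (b : letI := α.toAlgebra; Module.Basis (Fin n) A B) :
    letI := α.toAlgebra
    letI := α'.toAlgebra
    ∃ b' : Module.Basis (Fin n) A' B', (∀ i, b' i = g (b i)) ∧
      ∀ x, Algebra.trace A' B' (g x) = h (Algebra.trace A B x) := by
  algebraize [h, α, α', g, α'.comp h]
  have : IsScalarTower A B B' := IsScalarTower.of_algebraMap_eq' (congrArg CommRingCat.Hom.hom hpo.w)
  have hpush : Algebra.IsPushout A A' B B' := CommRingCat.isPushout_iff_isPushout.1 hpo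
  refine ⟨hpush.out.basis b, fun i => hpush.out.basis_apply b i, fun x => ?_⟩
  refine FinTrace.trace_map h g (fun r => ?_) b _ (fun i => hpush.out.basis_apply b i) x
  exact congr($(congrArg CommRingCat.Hom.hom hpo.w) r).symm

theorem id_appLE {X : Scheme.{u}} {O O' : X.Opens} (e : O' ≤ (𝟙 X : X ⟶ X) ⁻¹ᵁ O) :
    (𝟙 X : X ⟶ X).appLE O O' e = X.presheaf.map (homOfLE (show O' ≤ O from e)).op := by
  simp [Scheme.Hom.appLE]

variable (g : W ⟶ U) [IsFinite g] [Etale g]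

theorem isFinLocFree_push : FlatMod.IsFinLocFree (CurveTraceDeg.push g) :=
  ((S9716.result g).2 ⟨inferInstance, inferInstance, inferInstance⟩).2

theorem isFinLocFree_dir : FlatMod.IsFinLocFree (RelSpec.QCAlg.directImage g).toModule :=
  CurveTraceDeg.isFinLocFree_dir (isFinLocFree_push g)

/-- The trace of a function upstairs. -/
def tr (V : U.Opens) (a : Γ(W, g ⁻¹ᵁ V)) : Γ(U, V) :=
  FinTrace.trGlue (A := RelSpec.QCAlg.directImage g) (isFinLocFree_dir g) V a

theorem tr_add (V : U.Opens) (a b : Γ(W, g ⁻¹ᵁ V)) : tr g V (a + b) = tr g V a + tr g V b :=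
  @FinTrace.trGlue_add _ (RelSpec.QCAlg.directImage g) _ V a b

theorem tr_mul (V : U.Opens) (r : Γ(U, V)) (a : Γ(W, g ⁻¹ᵁ V)) : tr g V (g.app V r * a) = r * tr g V a :=
  FinTrace.trGlue_str_mul (A := RelSpec.QCAlg.directImage g) _ V r a

theorem tr_zero (V : U.Opens) : tr g V 0 = 0 := by
  simpa using tr_mul g V 0 0

theorem tr_sub (V : U.Opens) (a b : Γ(W, g ⁻¹ᵁ V)) : tr g V (a - b) = tr g V a - tr g V b := by
  rw [eq_sub_iff_add_eq, ← tr_add, sub_add_cancel]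

theorem tr_res {V' V : U.Opens} (h : V' ≤ V) (a : Γ(W, g ⁻¹ᵁ V)) :
    tr g V' (W.presheaf.map (homOfLE (g.preimage_mono h)).op a) = U.presheaf.map (homOfLE h).op (tr g V a) :=
  FinTrace.trGlue_res (A := RelSpec.QCAlg.directImage g) _ h a

/-- An affine open over which the algebra is free. -/
structure Fine (V : U.Opens) : Prop where
  affine : IsAffineOpen V
  basis : letI := CoverPush.alg g V; ∃ n : ℕ, Nonempty (Module.Basis (Fin n) Γ(U, V) Γ(W, g ⁻¹ᵁ V))

theorem exists_fine {x : U} {O : U.Opens} (hx : x ∈ O) : ∃ V, Fine g V ∧ x ∈ V ∧ V ≤ O := by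
  obtain ⟨U₀, n, hx₀, ⟨e⟩⟩ := isFinLocFree_dir g x
  obtain ⟨s, hs⟩ := Frame.exists_frame e
  obtain ⟨_, ⟨V, hV, rfl⟩, hxV, hle⟩ :=
    U.isBasis_affineOpens.exists_subset_of_mem_open (⟨hx₀, hx⟩ : x ∈ U₀ ⊓ O) (U₀ ⊓ O).2
  exact ⟨V, ⟨hV, n, ⟨FinTrace.basisA _ hs V (le_trans hle inf_le_left)⟩⟩, hxV, le_trans hle inf_le_right⟩

/-- Fine opens are stable under affine shrinking. -/
theorem Fine.mono {V V' : U.Opens} (hV : Fine g V) (h' : IsAffineOpen V') (h : V' ≤ V) :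
    ∃ n : ℕ, letI := CoverPush.alg g V; letI := CoverPush.alg g V'
      ∃ (b : Module.Basis (Fin n) Γ(U, V) Γ(W, g ⁻¹ᵁ V)) (b' : Module.Basis (Fin n) Γ(U, V') Γ(W, g ⁻¹ᵁ V')),
        ∀ i, b' i = W.presheaf.map (homOfLE (g.preimage_mono h)).op (b i) := by
  obtain ⟨n, ⟨b⟩⟩ := hV.basis
  haveI : IsOpenImmersion V'.ι := inferInstance
  have hpo := (isIso_pushoutSection_iff (IsPullback.id_horiz g) (US := V) (UT := V') (UX := g ⁻¹ᵁ V)
    (UY := g ⁻¹ᵁ V') (by exact h) le_rfl (by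
      exact le_antisymm (le_inf (g.preimage_mono h) le_rfl) inf_le_right)).1
    (isIso_pushoutSection_of_isAffineOpen _ _ _ _ hV.affine h' (hV.affine.preimage g))
  simp only [id_appLE, ← Scheme.Hom.app_eq_appLE] at hpo
  obtain ⟨b', hb', -⟩ := trace_of_isPushout hpo.flip b
  exact ⟨n, b, b', hb'⟩

theorem tr_eq_trace {V : U.Opens} (hV : Fine g V) (a : Γ(W, g ⁻¹ᵁ V)) :
    letI := CoverPush.alg g V
    tr g V a = Algebra.trace Γ(U, V) Γ(W, g ⁻¹ᵁ V) a := by
  letI := CoverPush.alg g V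
  obtain ⟨n, ⟨b⟩⟩ := hV.basis
  have hfree : Module.Free Γ(U, V) Γ(W, g ⁻¹ᵁ V) := Module.Free.of_basis b
  have hfin : Module.Finite Γ(U, V) Γ(W, g ⁻¹ᵁ V) := Module.Finite.of_basis b
  exact FinTrace.isTr_of_free (A := RelSpec.QCAlg.directImage g) hV.affine (isFinLocFree_dir g) hfree hfin a

theorem bijective_traceForm {V : U.Opens} (hV : Fine g V) :
    letI := CoverPush.alg g V
    Function.Bijective (Algebra.traceForm Γ(U, V) Γ(W, g ⁻¹ᵁ V)) := by
  letI := CoverPush.alg g V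
  obtain ⟨n, ⟨b⟩⟩ := hV.basis
  haveI := Module.Free.of_basis b
  haveI := Module.Finite.of_basis b
  haveI : Algebra.Etale Γ(U, V) Γ(W, g ⁻¹ᵁ V) := by
    rw [← RingHom.etale_algebraMap, RingHom.algebraMap_toAlgebra, Scheme.Hom.app_eq_appLE]
    exact HasRingHomProperty.appLE @Etale g inferInstance ⟨V, hV.affine⟩ ⟨_, hV.affine.preimage g⟩ le_rfl
  exact (TraceEtale.etale_iff_bijective_traceForm _ _).1 inferInstance

theorem eq_zero_of_tr {V : U.Opens} (hV : Fine g V) {a : Γ(W, g ⁻¹ᵁ V)} (h : ∀ b, tr g V (a * b) = 0) :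
    a = 0 := by
  letI := CoverPush.alg g V
  refine (bijective_traceForm g hV).1 ?_
  ext b
  rw [map_zero, LinearMap.zero_apply, Algebra.traceForm_apply, ← tr_eq_trace g hV]
  exact h b

theorem exists_tr_eq {V : U.Opens} (hV : Fine g V) (F : Γ(W, g ⁻¹ᵁ V) → Γ(U, V))
    (hadd : ∀ a b, F (a + b) = F a + F b) (hmul : ∀ r a, F (g.app V r * a) = r * F a) :
    ∃ t, ∀ b, tr g V (t * b) = F b := by
  letI := CoverPush.alg g V
  obtain ⟨t, ht⟩ := (bijective_traceForm g hV).2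
    { toFun := F, map_add' := hadd, map_smul' := fun r a => hmul r a }
  exact ⟨t, fun b => by
    rw [tr_eq_trace g hV, ← Algebra.traceForm_apply, ht]
    rfl⟩

variable {Z : Scheme.{u}} (i : Z ⟶ U) [IsAffineHom i]

/-- The projection to the base of a base change. -/
abbrev gZ : pullback g i ⟶ Z := pullback.snd g i

theorem preimage_le (V : U.Opens) :
    (gZ g i) ⁻¹ᵁ (i ⁻¹ᵁ V) ≤ pullback.fst g i ⁻¹ᵁ (g ⁻¹ᵁ V) := by
  rw [← Scheme.Hom.comp_preimage, ← Scheme.Hom.comp_preimage, pullback.condition]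

/-- Restriction of functions to a base change. -/
def res (V : U.Opens) (a : Γ(W, g ⁻¹ᵁ V)) : Γ(pullback g i, (gZ g i) ⁻¹ᵁ (i ⁻¹ᵁ V)) :=
  (pullback.fst g i).appLE (g ⁻¹ᵁ V) _ (preimage_le g i V) a

theorem fine_baseChange {V : U.Opens} (hV : Fine g V) :
    Fine (gZ g i) (i ⁻¹ᵁ V) ∧ (∀ a, tr (gZ g i) (i ⁻¹ᵁ V) (res g i V a) = i.app V (tr g V a)) ∧
      ∀ c : Γ(pullback g i, (gZ g i) ⁻¹ᵁ (i ⁻¹ᵁ V)),
        (∀ b, tr (gZ g i) (i ⁻¹ᵁ V) (c * res g i V b) = 0) → c = 0 := by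
  have hpo := (isIso_pushoutSection_iff (IsPullback.of_hasPullback g i) (US := V) (UT := i ⁻¹ᵁ V)
    (UX := g ⁻¹ᵁ V) (UY := (gZ g i) ⁻¹ᵁ (i ⁻¹ᵁ V)) le_rfl le_rfl
      (le_antisymm (le_inf (preimage_le g i V) le_rfl) inf_le_right)).1
    (isIso_pushoutSection_of_isAffineOpen _ _ _ _ hV.affine (hV.affine.preimage i) (hV.affine.preimage g))
  rw [← Scheme.Hom.app_eq_appLE, ← Scheme.Hom.app_eq_appLE, ← Scheme.Hom.app_eq_appLE] at hpo
  obtain ⟨n, ⟨b⟩⟩ := hV.basis
  obtain ⟨b', hb', htr⟩ := trace_of_isPushout hpo.flip b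
  have hf : Fine (gZ g i) (i ⁻¹ᵁ V) := ⟨hV.affine.preimage i, n, ⟨b'⟩⟩
  refine ⟨hf, fun a => ?_, fun c hc => ?_⟩
  · rw [tr_eq_trace (gZ g i) hf, tr_eq_trace g hV]
    exact htr a
  · letI := CoverPush.alg (gZ g i) (i ⁻¹ᵁ V)
    refine eq_zero_of_tr (gZ g i) hf fun z => ?_
    rw [tr_eq_trace (gZ g i) hf, ← Algebra.traceForm_apply]
    let b'' : Module.Basis (Fin n) Γ(Z, i ⁻¹ᵁ V) Γ(pullback g i, (gZ g i) ⁻¹ᵁ (i ⁻¹ᵁ V)) := b'
    have hb'' : ∀ j, b'' j = res g i V (b j) := hb'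
    have : Algebra.traceForm Γ(Z, i ⁻¹ᵁ V) Γ(pullback g i, (gZ g i) ⁻¹ᵁ (i ⁻¹ᵁ V)) c = 0 :=
      b''.ext fun j => by
        rw [Algebra.traceForm_apply, ← tr_eq_trace (gZ g i) hf, hb'' j, LinearMap.zero_apply]
        exact hc _
    rw [this, LinearMap.zero_apply]

theorem res_res' {V' V : U.Opens} (h : V' ≤ V) (a : Γ(W, g ⁻¹ᵁ V)) :
    res g i V' (W.presheaf.map (homOfLE (g.preimage_mono h)).op a) =
      (pullback g i).presheaf.map (homOfLE ((gZ g i).preimage_mono (i.preimage_mono h))).op (res g i V a) := by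
  simp only [res, ← ConcreteCategory.comp_apply, Scheme.Hom.map_appLE, Scheme.Hom.appLE_map]

/-- The trace commutes with base change. -/
theorem tr_res_baseChange (V : U.Opens) (a : Γ(W, g ⁻¹ᵁ V)) :
    tr (gZ g i) (i ⁻¹ᵁ V) (res g i V a) = i.app V (tr g V a) := by
  choose F hF hxF hle using fun x : V => exists_fine g x.2
  refine Z.sheaf.eq_of_locally_eq' (fun x : V => i ⁻¹ᵁ F x) (i ⁻¹ᵁ V) (fun x => homOfLE (i.preimage_mono (hle x)))
    (fun z hz => Opens.mem_iSup.mpr ⟨⟨i z, hz⟩, hxF ⟨i z, hz⟩⟩) _ _ fun x => ?_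
  show Z.presheaf.map _ _ = Z.presheaf.map _ _
  rw [← tr_res (gZ g i) (i.preimage_mono (hle x)), ← res_res' g i (hle x), (fine_baseChange g i (hF x)).2.1,
    tr_res g (hle x), ← ConcreteCategory.comp_apply, ← ConcreteCategory.comp_apply, i.naturality]
  rfl

/-- A function on the base change orthogonal to all restricted functions on fine opens is zero. -/
theorem eq_zero_of_tr_res {c : Γ(pullback g i, ⊤)}
    (h : ∀ (V : U.Opens) (b : Γ(W, g ⁻¹ᵁ V)), Fine g V →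
      tr (gZ g i) (i ⁻¹ᵁ V) ((pullback g i).presheaf.map (homOfLE le_top).op c * res g i V b) = 0) :
    c = 0 := by
  choose F hF hxF _hle using fun x : U => exists_fine g (x := x) (O := ⊤) trivial
  refine (pullback g i).sheaf.eq_of_locally_eq' (fun x : U => (gZ g i) ⁻¹ᵁ (i ⁻¹ᵁ F x)) ⊤
    (fun x => homOfLE le_top) (fun z _ => Opens.mem_iSup.mpr ⟨i (gZ g i z), hxF _⟩) _ _ fun x => ?_
  rw [map_zero]
  exact (fine_baseChange g i (hF x)).2.2 _ fun b => h _ b (hF x)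

end Groth.Agent.LefFEt
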